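import Mathlib
import Groth.Prelude.Def_Wider

/-!
# S17775: top local cohomology as the top Čech quotient — shared definitions (helper55)
-/

set_option autoImplicit false
universe u

namespace Groth.Agent.H55.CE

variable {R : Type u} [CommRing R]

/-- the submodule of `M_t` (`t = ∏ x i`) spanned by the fractions `x i ^ n • m / t ^ n` -/
def cechSub {d : ℕ} (x : Fin d → R) (M : Type u) [AddCommGroup M] [Module R M] :
    Submodule R (LocalizedModule (Submonoid.powers (∏ i, x i)) M) :=
  Submodule.span R {y | ∃ (i : Fin d) (n : ℕ) (m : M),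
    y = LocalizedModule.mk ((x i) ^ n • m)
      ⟨(∏ u, x u) ^ n, Submonoid.pow_mem _ (Submonoid.mem_powers _) n⟩}

/-- the top Čech quotient `M_t / Σ_i M_{t / x_i}` -/
abbrev cechTop {d : ℕ} (x : Fin d → R) (M : Type u) [AddCommGroup M] [Module R M] : Type u :=
  LocalizedModule (Submonoid.powers (∏ i, x i)) M ⧸ cechSub x M

/-- the cokernel of `N → N_b` -/
abbrev locCoker (b : R) (N : Type u) [AddCommGroup N] [Module R N] : Type u :=
  LocalizedModule (Submonoid.powers b) N ⧸
    LinearMap.range (LocalizedModule.mkLinearMap (Submonoid.powers b) N)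

end Groth.Agent.H55.CE
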